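import Groth.Agent.AlgSpLib.MorPack
import Groth.Agent.AlgSpLib.Noeth
import Groth.Agent.AlgSpLib.Qc
import Groth.Agent.AlgSpLib.FiniteNhd
import Groth.Agent.AlgSpLib.LqfFibres
import Groth.Agent.AlgSpLib.UnivClosedQc

/-!
# Properties of a morphism deduced after a surjection onto its source
-/

set_option autoImplicit false
set_option linter.style.haveILetI false
universe u

open CategoryTheory CategoryTheory.Limits AlgebraicGeometry
open AlgSp AlgSpLib

namespace AlgSpMiscLib

variable {S : Scheme.{u}} {F G H : Sp S} {f : F ⟶ G} {g : G ⟶ H}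

theorem isQuasiCompactMor_of_surjective (hG : IsAlgSpace G) (hH : IsAlgSpace H) (hf : IsSurjectiveMor f)
    (hfg : IsQuasiCompactMor (f ≫ g)) : IsQuasiCompactMor g := by
  intro Z Z' hZ hqc k fst snd sq
  have sq1 := IsPullback.of_hasPullback f fst
  exact isQuasiCompactSp_of_surjective (isAlgSpace_of_isPullback hG hZ hH sq) (map_surjective_of_isPullback sq1 hf)
    (hfg hZ hqc k (pullback.fst f fst) _ (sq1.paste_vert sq))

theorem diagonal_of_surjective_univClosed (hF : IsAlgSpace F) (hG : IsAlgSpace G) (hH : IsAlgSpace H)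
    (hs : IsSurjectiveMor f) (hc : IsUnivClosedMor f) :
    (IsQuasiSeparatedMor (f ≫ g) → IsQuasiSeparatedMor g) ∧ (IsSeparatedMor (f ≫ g) → IsSeparatedMor g) := by
  let p := f ≫ g
  have hP := isAlgSpace_pullback hF hF hH p p
  have hR := isAlgSpace_pullback hG hF hH g p
  have hQ := isAlgSpace_pullback hG hG hH g g
  let m1 : pullback p p ⟶ pullback g p := pullback.lift (pullback.fst p p ≫ f) (pullback.snd p p)
    (by rw [Category.assoc]; exact pullback.condition)
  let m2 : pullback g p ⟶ pullback g g := pullback.lift (pullback.fst g p) (pullback.snd g p ≫ f)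
    (by rw [Category.assoc]; exact pullback.condition)
  have sq1 : IsPullback (pullback.fst p p) m1 f (pullback.fst g p) := by
    refine IsPullback.of_bot ?_ (pullback.lift_fst _ _ _).symm (IsPullback.of_hasPullback g p)
    rw [show m1 ≫ pullback.snd g p = pullback.snd p p from pullback.lift_snd _ _ _]
    exact IsPullback.of_hasPullback p p
  have sq2 : IsPullback (pullback.snd g p) m2 f (pullback.snd g g) := by
    refine IsPullback.of_bot ?_ (pullback.lift_snd _ _ _).symm (IsPullback.of_hasPullback g g).flip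
    rw [show m2 ≫ pullback.fst g g = pullback.fst g p from pullback.lift_fst _ _ _]
    exact (IsPullback.of_hasPullback g p).flip
  have hm1 : IsUnivClosedMor m1 := univSp_of_isPullback sq1 hc
  have hm2 : IsUnivClosedMor m2 := univSp_of_isPullback sq2 hc
  have hm : IsUnivClosedMor (m1 ≫ m2) := isUnivClosedMor_comp hR hQ hm1 hm2
  have e : f ≫ pullback.diagonal g = pullback.diagonal p ≫ m1 ≫ m2 := by
    apply pullback.hom_ext
    · rw [Category.assoc, pullback.diagonal_fst, Category.comp_id, Category.assoc, Category.assoc,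
        pullback.lift_fst, pullback.lift_fst, pullback.diagonal_fst_assoc]
    · rw [Category.assoc, pullback.diagonal_snd, Category.comp_id, Category.assoc, Category.assoc,
        pullback.lift_snd, pullback.lift_snd_assoc, pullback.diagonal_snd_assoc]
  constructor
  · intro h
    refine (repWith_quasiCompact_iff hG hQ (repWith_diagonal_properties hG g).1).2
      (isQuasiCompactMor_of_surjective hG hQ hs ?_)
    rw [e]
    exact isQuasiCompactMor_comp hP hQ
      (isQuasiCompactMor_of_repWith hF hP (h : RepWith @QuasiCompact (pullback.diagonal p)))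
      (isQuasiCompactMor_of_univClosed hP hQ hm)
  · intro h
    refine isSeparatedMor_of_univClosed_diagonal hG hH (isUnivClosedMor_of_surjective hF hG hQ hs ?_)
    rw [e]
    exact isUnivClosedMor_comp hP hQ ((isSeparatedMor_iff_univClosed_diagonal hF hH).1 h) hm

theorem isFiniteMor_of_etale_surjective (hF : IsAlgSpace F) (hG : IsAlgSpace G) (hH : IsAlgSpace H)
    (hp : IsEtaleMor f) (hps : IsSurjectiveMor f) (hsep : IsSeparatedMor g) (h : IsFiniteMor (f ≫ g)) :
    IsFiniteMor g := by
  have hprop := ((isFiniteMor_iff_affine_proper hF hH).1 h).2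
  have hq : LocP (@LocallyQuasiFinite ⊓ @LocallyOfFiniteType) (f ≫ g) :=
    @locP_of_repWith _ _ (etLocProp_of_list (by simp)) _ _ _ (repWith_mono
      (fun _ _ k (_ : IsFinite k) => ⟨(inferInstance : LocallyQuasiFinite k), (inferInstance : LocallyOfFiniteType k)⟩)
      (isFiniteMor_iff.1 h))
  have hs : ∀ x : Points G, ∃ _ : PUnit.{u + 1}, x ∈ Set.range (Points.map f) := fun x => ⟨⟨⟩, hps x⟩
  have hlq : LocP (@LocallyQuasiFinite ⊓ @LocallyOfFiniteType) g :=
    @locP_of_cover _ _ (etLocProp_of_list (by simp)) PUnit.{u + 1} G hG (fun _ => F) (fun _ => hF) (fun _ => f)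
      (fun _ => hp) hs H g (fun _ => hq)
  exact isFiniteMor_of_proper_lqf hG hH ⟨hsep, ⟨locP_mono inf_le_right hlq,
    isQuasiCompactMor_of_surjective hG hH hps hprop.2.1.2⟩, isUnivClosedMor_of_surjective hF hG hH hps hprop.2.2⟩ hlq

theorem finite_tfae (hF : IsAlgSpace F) (hG : IsAlgSpace G) :
    [IsFiniteMor f,
      IsProperMor f ∧ LocP (@LocallyQuasiFinite ⊓ @LocallyOfFiniteType) f,
      IsProperMor f ∧ ∀ (k : FieldPt G) (Xk : Sp S) (fst : Xk ⟶ F) (snd : Xk ⟶ (yon S).obj k.pt),
          IsPullback fst snd f k.toHom → DiscreteTopology (Points Xk),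
      IsUnivClosedMor f ∧ IsSeparatedMor f ∧ LocP @LocallyOfFiniteType f ∧
        ∀ (k : FieldPt G) (Xk : Sp S) (fst : Xk ⟶ F) (snd : Xk ⟶ (yon S).obj k.pt),
          IsPullback fst snd f k.toHom → DiscreteTopology (Points Xk)].TFAE := by
  tfae_have 1 → 2 := fun h => ⟨((isFiniteMor_iff_affine_proper hF hG).1 h).2,
    @locP_of_repWith _ _ (etLocProp_of_list (by simp)) _ _ _ (repWith_mono
      (fun _ _ k (_ : IsFinite k) => ⟨(inferInstance : LocallyQuasiFinite k), (inferInstance : LocallyOfFiniteType k)⟩)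
      (isFiniteMor_iff.1 h))⟩
  tfae_have 2 → 3 := fun h => ⟨h.1, fun k Xk fst snd sq =>
    (locP_lqf_iff_discrete_fibres hF hG h.1.2.1.1).1 h.2 k.K k.str k.toHom Xk fst snd sq⟩
  tfae_have 3 → 4 := fun h => ⟨h.1.2.2, h.1.1, h.1.2.1.1, h.2⟩
  tfae_have 4 → 1 := by
    rintro ⟨h1, h2, h3, h4⟩
    refine isFiniteMor_of_proper_lqf hF hG ⟨h2, ⟨h3, isQuasiCompactMor_of_univClosed hF hG h1⟩, h1⟩
      ((locP_lqf_iff_discrete_fibres hF hG h3).2 fun K _ str y P fst snd sq => ?_)
    let k : FieldPt G := ⟨K, str, (J S).uliftYonedaEquiv.{u+1} y⟩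
    have hk : k.toHom = y := (J S).uliftYonedaEquiv.{u+1}.symm_apply_apply y
    exact h4 k P fst snd (by rw [hk]; exact sq)
  tfae_finish

end AlgSpMiscLib
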